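-- Team project APQ (S4150), package [NTINEQ] (helper43): the main inequality of Bertrand's
-- postulate with an extra factor `(2n)²`, for `n ≥ 2048`.  Obtained from Mathlib's
-- `Bertrand.real_main_inequality` at `x / 4` raised to the fourth power.
import Mathlib
import Cfsg.Agent.Lib.Helper69.APQ.Defs

set_option autoImplicit false

namespace Cfsg.Agent.Lib.Helper43.APQ

open Real

theorem real_ineq4 {x : ℝ} (hx : (2048 : ℝ) ≤ x) :
    x * ((2 * x) ^ √(2 * x) * (4 : ℝ) ^ (2 * x / 3) * (2 * x) ^ (2 : ℕ)) ≤ (4 : ℝ) ^ x := by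
  have hx0 : (0 : ℝ) < x := by linarith
  set y : ℝ := x / 4 with hy
  have hy0 : (0 : ℝ) < y := by rw [hy]; positivity
  have hy512 : (512 : ℝ) ≤ y := by rw [hy]; linarith
  have hM := Bertrand.real_main_inequality hy512
  have hM4 : (y * (2 * y) ^ √(2 * y) * (4 : ℝ) ^ (2 * y / 3)) ^ (4 : ℕ) ≤ ((4 : ℝ) ^ y) ^ (4 : ℕ) :=
    pow_le_pow_left₀ (by positivity) hM 4
  have e1 : ((4 : ℝ) ^ y) ^ (4 : ℕ) = (4 : ℝ) ^ x := by
    rw [← Real.rpow_natCast, ← Real.rpow_mul (by norm_num)]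
    congr 1
    rw [hy]
    push_cast
    ring
  have e2 : ((4 : ℝ) ^ (2 * y / 3)) ^ (4 : ℕ) = (4 : ℝ) ^ (2 * x / 3) := by
    rw [← Real.rpow_natCast, ← Real.rpow_mul (by norm_num)]
    congr 1
    rw [hy]
    push_cast
    ring
  set s : ℝ := √(2 * x) with hs
  have hs0 : 0 ≤ s := Real.sqrt_nonneg _
  have hs2y : √(2 * y) = s / 2 := by
    rw [hs, hy]
    have h1 : 2 * (x / 4) = (2 * x) / (2 : ℝ) ^ 2 := by ring
    rw [h1, Real.sqrt_div' _ (by positivity), Real.sqrt_sq (by norm_num)]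
  have e3 : ((2 * y) ^ √(2 * y)) ^ (4 : ℕ) = (x ^ 2 / 4) ^ s := by
    rw [hs2y, ← Real.rpow_natCast, ← Real.rpow_mul (by positivity)]
    have h1 : s / 2 * ((4 : ℕ) : ℝ) = (2 : ℕ) * s := by push_cast; ring
    rw [h1, Real.rpow_mul (by positivity), Real.rpow_natCast]
    congr 1
    rw [hy]
    ring
  have e4 : (x ^ 2 / 4 : ℝ) ^ s = (x / 8) ^ s * (2 * x) ^ s := by
    rw [← Real.mul_rpow (by positivity) (by positivity)]
    congr 1
    ring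
  have h1le : (1 : ℝ) ≤ (x / 8) ^ s := Real.one_le_rpow (by linarith) hs0
  have hpos2x : (0 : ℝ) < (2 * x) ^ s := Real.rpow_pos_of_pos (by positivity) _
  have hpos4 : (0 : ℝ) < (4 : ℝ) ^ (2 * x / 3) := Real.rpow_pos_of_pos (by norm_num) _
  have key : x * (2 * x) ^ (2 : ℕ) ≤ y ^ (4 : ℕ) * (x / 8) ^ s := by
    have h2 : x * (2 * x) ^ (2 : ℕ) ≤ y ^ (4 : ℕ) := by
      rw [hy]
      have h3 : (x / 4) ^ (4 : ℕ) - x * (2 * x) ^ (2 : ℕ) = x ^ 3 * (x - 1024) / 256 := by ring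
      have h4 : 0 ≤ x ^ 3 * (x - 1024) / 256 := by
        apply div_nonneg
        · apply mul_nonneg (by positivity) (by linarith)
        · norm_num
      linarith
    calc x * (2 * x) ^ (2 : ℕ) ≤ y ^ (4 : ℕ) := h2
      _ = y ^ (4 : ℕ) * 1 := (mul_one _).symm
      _ ≤ y ^ (4 : ℕ) * (x / 8) ^ s := by
        apply mul_le_mul_of_nonneg_left h1le (by positivity)
  calc x * ((2 * x) ^ s * (4 : ℝ) ^ (2 * x / 3) * (2 * x) ^ (2 : ℕ))
      = (x * (2 * x) ^ (2 : ℕ)) * ((2 * x) ^ s * (4 : ℝ) ^ (2 * x / 3)) := by ring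
    _ ≤ (y ^ (4 : ℕ) * (x / 8) ^ s) * ((2 * x) ^ s * (4 : ℝ) ^ (2 * x / 3)) := by
        apply mul_le_mul_of_nonneg_right key (by positivity)
    _ = (y * (2 * y) ^ √(2 * y) * (4 : ℝ) ^ (2 * y / 3)) ^ (4 : ℕ) := by
        rw [mul_pow, mul_pow, e2, e3, e4]
        ring
    _ ≤ ((4 : ℝ) ^ y) ^ (4 : ℕ) := hM4
    _ = (4 : ℝ) ^ x := e1

/-- [NTINEQ] -/
theorem pkgNTIneq : Cfsg.Agent.Lib.Helper69.APQ.PkgNTIneq := by
  intro n hn
  have hx : (2048 : ℝ) ≤ (n : ℝ) := by exact_mod_cast hn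
  have h := real_ineq4 hx
  rw [Real.rpow_natCast] at h
  rw [← @Nat.cast_le ℝ]
  simp only [Nat.cast_mul, Nat.cast_pow, Nat.cast_ofNat]
  refine le_trans ?_ h
  have hn1 : (1 : ℝ) ≤ 2 * (n : ℝ) := by linarith
  have a1 : (2 * (n : ℝ)) ^ Nat.sqrt (2 * n) ≤ (2 * (n : ℝ)) ^ √(2 * (n : ℝ)) := by
    rw [← Real.rpow_natCast]
    apply Real.rpow_le_rpow_of_exponent_le hn1
    have := Real.nat_sqrt_le_real_sqrt (a := 2 * n)
    push_cast at this
    exact this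
  have a2 : (4 : ℝ) ^ (2 * n / 3) ≤ (4 : ℝ) ^ (2 * (n : ℝ) / 3) := by
    rw [← Real.rpow_natCast]
    apply Real.rpow_le_rpow_of_exponent_le (by norm_num)
    have : ((2 * n / 3 : ℕ) : ℝ) ≤ ((2 * n : ℕ) : ℝ) / ((3 : ℕ) : ℝ) := Nat.cast_div_le
    push_cast at this
    exact this
  have hn0 : (0 : ℝ) ≤ (n : ℝ) := by positivity
  gcongr

end Cfsg.Agent.Lib.Helper43.APQ
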