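-- Team project APQ (S4150), package [T13S] (helper43): no subgroup of `S_13` has order
-- `8580 = 13 · 12 · 55` (count of the Sylow `13`-subgroups).
import Mathlib
import Cfsg.Agent.Lib.Helper69.APQ.Defs

set_option autoImplicit false

namespace Cfsg.Agent.Lib.Helper43.APQ

open Equiv

universe u

/-- The centralizer in `Perm β`, `|β| = 13`, of an element of order `13` has order `13`. -/
theorem card_centralizer_13 {β : Type u} [Fintype β] [DecidableEq β] (hβ : Fintype.card β = 13)
    (σ : Perm β) (hσ : orderOf σ = 13) :
    Nat.card (Subgroup.centralizer ({σ} : Set (Perm β))) = 13 := by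
  have hp : (orderOf σ).Prime := by rw [hσ]; norm_num
  obtain ⟨k, hk⟩ := Equiv.Perm.cycleType_prime_order hp
  rw [hσ] at hk
  have hsum := Equiv.Perm.sum_cycleType_le σ
  rw [hk, hβ, Multiset.sum_replicate, smul_eq_mul] at hsum
  have hk0 : k = 0 := by omega
  subst hk0
  have hct : σ.cycleType = {13} := by rw [hk]; rfl
  rw [Equiv.Perm.nat_card_centralizer, hct, hβ]
  simp

/-- [T13S] -/
theorem pkgT13S : Cfsg.Agent.Lib.Helper69.APQ.PkgT13S.{u} := by
  intro β _ _ G hβ hG
  classical
  haveI : Fact (Nat.Prime 13) := ⟨by norm_num⟩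
  obtain ⟨Q⟩ := (Sylow.nonempty : Nonempty (Sylow 13 G))
  have hQcard : Nat.card Q = 13 := by
    rw [Sylow.card_eq_multiplicity, hG]
    have h8580 : (8580 : ℕ) = 13 * 660 := by norm_num
    have hfac : (Nat.factorization 8580) 13 = 1 := by
      rw [h8580, Nat.factorization_mul (by norm_num) (by norm_num)]
      simp [Nat.Prime.factorization_self (show Nat.Prime 13 by norm_num),
        Nat.factorization_eq_zero_of_not_dvd (show ¬ 13 ∣ 660 by norm_num)]
    rw [hfac, pow_one]
  haveI hQcyc : IsCyclic (Q : Subgroup G) := isCyclic_of_prime_card hQcard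
  have hAut : Nat.card (MulAut (Q : Subgroup G)) = 12 := by
    rw [IsCyclic.card_mulAut, hQcard]
    decide
  -- a generator of `Q`
  have hQnt : Nontrivial (Q : Subgroup G) := by
    rw [← Finite.one_lt_card_iff_nontrivial, hQcard]
    norm_num
  obtain ⟨g, hg1⟩ := exists_ne (1 : (Q : Subgroup G))
  have hgord : orderOf g = 13 := by
    have h1 : orderOf g ∣ 13 := by
      have h0 := orderOf_dvd_natCard g
      rwa [hQcard] at h0
    rcases (Nat.dvd_prime (by norm_num : Nat.Prime 13)).1 h1 with h | h
    · exact absurd (orderOf_eq_one_iff.1 h) hg1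
    · exact h
  set σ : Perm β := ((g : G) : Perm β) with hσdef
  have hσord : orderOf σ = 13 := by
    rw [hσdef, Subgroup.orderOf_coe, Subgroup.orderOf_coe, hgord]
  have hcent := card_centralizer_13 hβ σ hσord
  -- the normalizer and its action on `Q`
  set N : Subgroup G := Subgroup.normalizer ((Q : Subgroup G) : Set G) with hNdef
  let φ : N →* MulAut (Q : Subgroup G) := (Q : Subgroup G).normalizerMonoidHom
  have hrange : Nat.card φ.range ∣ 12 := by
    have h0 := Subgroup.card_subgroup_dvd_card φ.range
    rwa [hAut] at h0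
  have hker : Nat.card φ.ker ∣ 13 := by
    suffices h0 : Nat.card φ.ker ∣ Nat.card (Subgroup.centralizer ({σ} : Set (Perm β))) by
      rwa [hcent] at h0
    let f : φ.ker →* Subgroup.centralizer ({σ} : Set (Perm β)) :=
      MonoidHom.codRestrict ((G.subtype.comp N.subtype).comp φ.ker.subtype) _ (by
        intro c
        have hc : (c : N) ∈ (Subgroup.centralizer ((Q : Subgroup G) : Set G)).subgroupOf
            (Subgroup.normalizer ((Q : Subgroup G) : Set G)) := by
          rw [← Subgroup.normalizerMonoidHom_ker]
          exact c.2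
        rw [Subgroup.mem_subgroupOf, Subgroup.mem_centralizer_iff] at hc
        have h1 := hc (g : G) g.2
        rw [Subgroup.mem_centralizer_iff]
        intro h hh
        rw [Set.mem_singleton_iff] at hh
        subst hh
        have h2 := congrArg (fun z : G => (z : Perm β)) h1
        simpa using h2)
    apply Subgroup.card_dvd_of_injective f
    intro a b hab
    have h1 := congrArg (fun z : Subgroup.centralizer ({σ} : Set (Perm β)) => (z : Perm β)) hab
    simp only [f, MonoidHom.codRestrict_apply, MonoidHom.comp_apply, Subgroup.subtype_apply] at h1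
    exact Subtype.ext (Subtype.ext (Subtype.ext h1))
  have hNk : Nat.card φ.ker * Nat.card φ.range = Nat.card N := by
    rw [← Subgroup.index_ker]
    exact Subgroup.card_mul_index _
  have hNdvd : Nat.card N ∣ 156 := by
    rw [← hNk]
    exact mul_dvd_mul hker hrange
  have hNn : Nat.card N * N.index = 8580 := by
    rw [Subgroup.card_mul_index, hG]
  have hmod : N.index % 13 = 1 := by
    have h1 := card_sylow_modEq_one 13 G
    rw [Q.card_eq_index_normalizer] at h1
    exact h1
  obtain ⟨c, hc⟩ := hNdvd
  have h156 : 156 * N.index = 8580 * c := by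
    rw [hc]
    calc Nat.card N * c * N.index = c * (Nat.card N * N.index) := by ring
      _ = 8580 * c := by rw [hNn]; ring
  have hc156 : c ∣ 156 := ⟨Nat.card N, by rw [hc]; ring⟩
  have hcle : c ≤ 156 := Nat.le_of_dvd (by norm_num) hc156
  have hc9 : c % 13 = 9 := by omega
  interval_cases c <;> omega

end Cfsg.Agent.Lib.Helper43.APQ
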